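import Mathlib

/-!
Tools for the kernel-checked certificates about the Rudvalis lattice: tables, bit tricks and
enumeration of the span of a list of bit vectors.
-/

set_option autoImplicit false

namespace CfsgLib.Ru

/-- A binary tree with numbers at the nodes. -/
inductive BT where
  | leaf (x : ℕ)
  | node (n : ℕ) (l r : BT)

/-- Searching: a node holds the least key of its right subtree. -/
noncomputable def BT.search (t : BT) : ℕ → ℕ :=
  BT.rec (fun x _ => x) (fun n _ _ sl sr k => bif Nat.blt k n then sl k else sr k) t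

/-- Entry `i` of a packed table with entries of `w` bits, `m = 2 ^ w - 1`. -/
noncomputable def ext (tbl w m i : ℕ) : ℕ := Nat.land (Nat.shiftRight tbl (Nat.mul w i)) m

/-- Evaluate a number before passing it on. -/
noncomputable def force {α : Type} (m : ℕ) (f : ℕ → α) : α :=
  Nat.rec (f Nat.zero) (fun p _ => f (Nat.succ p)) m

theorem force_eq {α : Type} (m : ℕ) (f : ℕ → α) : force m f = f m := by cases m <;> rfl

/-- Conjunction over `[lo, lo + 2 ^ d)` cut at `n`. -/
noncomputable def allR (n : ℕ) (f : ℕ → Bool) (d lo : ℕ) : Bool :=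
  Nat.rec (fun lo => bif Nat.blt lo n then f lo else true)
    (fun d ih lo => ih lo && ih (Nat.add lo (Nat.pow 2 d))) d lo

theorem allR_spec {n : ℕ} {f : ℕ → Bool} :
    ∀ d lo, allR n f d lo = true → ∀ i, lo ≤ i → i < lo + 2 ^ d → i < n → f i = true := by
  intro d
  induction d with
  | zero =>
    intro lo h i h1 h2 h3
    obtain rfl : i = lo := by simp at h2; omega
    have h' : (bif Nat.blt i n then f i else true) = true := h
    rwa [show Nat.blt i n = true from Nat.ble_eq_true_of_le h3] at h'
  | succ d ih =>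
    intro lo h i h1 h2 h3
    have h' : (allR n f d lo && allR n f d (lo + 2 ^ d)) = true := h
    rw [Bool.and_eq_true] at h'
    rw [pow_succ] at h2
    by_cases hi : i < lo + 2 ^ d
    · exact ih lo h'.1 i h1 hi h3
    · exact ih _ h'.2 i (by omega) (by omega) h3

theorem allR_zero {n : ℕ} {f : ℕ → Bool} {d : ℕ} (h : allR n f d 0 = true) (hn : n ≤ 2 ^ d) :
    ∀ i < n, f i = true :=
  fun i hi => allR_spec d 0 h i (Nat.zero_le i) (by omega) hi

/-! ### Linear functions of bit vectors -/

theorem lin_ext {α : Type*} {n : ℕ} (op : α → α → α) (f g : ℕ → α)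
    (hf : ∀ a b, f (a ^^^ b) = op (f a) (f b)) (hg : ∀ a b, g (a ^^^ b) = op (g a) (g b))
    (h0 : f 0 = g 0) (hb : ∀ s < n, f (2 ^ s) = g (2 ^ s)) : ∀ z < 2 ^ n, f z = g z := by
  induction n with
  | zero => intro z hz; obtain rfl : z = 0 := (by simpa using hz); exact h0
  | succ n ih =>
    intro z hz
    have ih' := ih (fun s hs => hb s (by omega))
    by_cases hz' : z < 2 ^ n
    · exact ih' z hz'
    · have h1 : z = 2 ^ n ^^^ (z - 2 ^ n) := by
        have hlt : z - 2 ^ n < 2 ^ n := by rw [pow_succ] at hz; omega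
        apply Nat.eq_of_testBit_eq
        intro i
        conv_lhs => rw [show z = 2 ^ n * 1 + (z - 2 ^ n) by omega]
        rw [Nat.testBit_two_pow_mul_add _ hlt, Nat.testBit_xor, Nat.testBit_two_pow]
        rcases lt_trichotomy i n with h | rfl | h
        · simp [h, (ne_of_lt h).symm]
        · simp [Nat.testBit_lt_two_pow hlt]
        · simp [Nat.not_lt.2 h.le, h.ne,
            Nat.testBit_lt_two_pow (hlt.trans_le (Nat.pow_le_pow_right (by norm_num) h.le))]
          obtain ⟨k, hk⟩ : ∃ k, i - n = k + 1 := ⟨i - n - 1, by omega⟩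
          simp [hk, Nat.testBit_add_one]
      rw [h1, hf, hg, hb n (by omega), ih' _ (by rw [pow_succ] at hz; omega)]

/-- One folding step. -/
def fold (h z : ℕ) : ℕ := Nat.xor z (Nat.shiftRight z h)

/-- The parity of the bits below `2 ^ 64`. -/
def par (z : ℕ) : Bool :=
  Nat.testBit (fold 1 (fold 2 (fold 4 (fold 8 (fold 16 (fold 32 z)))))) 0

theorem fold_xor (h a b : ℕ) : fold h (a ^^^ b) = fold h a ^^^ fold h b := by
  apply Nat.eq_of_testBit_eq
  intro i
  show ((a ^^^ b) ^^^ ((a ^^^ b) >>> h)).testBit i = ((a ^^^ a >>> h) ^^^ (b ^^^ b >>> h)).testBit i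
  simp only [Nat.testBit_xor, Nat.testBit_shiftRight]
  cases a.testBit i <;> cases b.testBit i <;> cases a.testBit (h + i) <;>
    cases b.testBit (h + i) <;> rfl

theorem par_xor (a b : ℕ) : par (a ^^^ b) = (par a ^^ par b) := by
  simp only [par, fold_xor, Nat.testBit_xor]

theorem par_and_xor (a b h : ℕ) : par ((a ^^^ b) &&& h) = (par (a &&& h) ^^ par (b &&& h)) := by
  rw [Nat.and_xor_distrib_right, par_xor]

theorem par_and_xor' (a b h : ℕ) : par (h &&& (a ^^^ b)) = (par (h &&& a) ^^ par (h &&& b)) := by
  rw [Nat.and_xor_distrib_left, par_xor]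

/-- The number of bits below `n`. -/
def pcnt (n z : ℕ) : ℕ := ∑ s ∈ Finset.range n, (z.testBit s).toNat

/-- Parity as a sum. -/
def parSum (n z : ℕ) : ZMod 2 := ∑ s ∈ Finset.range n, ((z.testBit s).toNat : ZMod 2)

theorem parSum_xor (n a b : ℕ) : parSum n (a ^^^ b) = parSum n a + parSum n b := by
  rw [parSum, parSum, parSum, ← Finset.sum_add_distrib]
  refine Finset.sum_congr rfl fun s _ => ?_
  rw [Nat.testBit_xor]
  cases a.testBit s <;> cases b.testBit s <;> decide

theorem par_eq {n z : ℕ} (hn : n ≤ 56) (hz : z < 2 ^ n) :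
    ((par z).toNat : ZMod 2) = parSum n z := by
  have hb : ∀ s < 56, par (2 ^ s) = true := by decide +kernel
  refine lin_ext (n := n) (· + ·) (fun z => ((par z).toNat : ZMod 2)) (parSum n) (fun a b => ?_)
    (parSum_xor n) ?_ ?_ z hz
  · show ((par (a ^^^ b)).toNat : ZMod 2) = ((par a).toNat : ZMod 2) + (par b).toNat
    rw [par_xor]
    cases par a <;> cases par b <;> decide
  · show ((par 0).toNat : ZMod 2) = parSum n 0
    simp [parSum, par, fold] <;> decide
  · intro s hs
    show ((par (2 ^ s)).toNat : ZMod 2) = parSum n (2 ^ s)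
    rw [hb s (by omega), parSum, Finset.sum_eq_single s]
    · simp [Nat.testBit_two_pow_self]
    · intro b _ hbs
      simp [Ne.symm hbs]
    · simp [hs]

/-- Clear the lowest bit `k` times. -/
noncomputable def leK (k z : ℕ) : Bool :=
  Nat.rec (fun z => Nat.beq z 0) (fun _ ih z => ih (Nat.land z (Nat.sub z 1))) k z

theorem leK_succ (k z : ℕ) : leK (k + 1) z = leK k (z &&& (z - 1)) := rfl

theorem leK_zero_arg : ∀ k, leK k 0 = true
  | 0 => rfl
  | k + 1 => (leK_succ k 0).trans (leK_zero_arg k)

theorem leK_of_pcnt_le {n : ℕ} : ∀ k z, z < 2 ^ n → pcnt n z ≤ k → leK k z = true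
  | 0, z, hz, h => by
    have : z = 0 := by
      apply Nat.eq_of_testBit_eq
      intro i
      rw [Nat.zero_testBit]
      by_cases hi : i < n
      · have := (Finset.sum_eq_zero_iff.1 (Nat.le_zero.1 h)) i (Finset.mem_range.2 hi)
        simpa using this
      · exact Nat.testBit_lt_two_pow (hz.trans_le (Nat.pow_le_pow_right (by norm_num) (by omega)))
    subst this; rfl
  | k + 1, z, hz, h => by
    by_cases hz0 : z = 0
    · subst hz0; exact leK_zero_arg _
    obtain ⟨l, m, hm, rfl⟩ := Nat.exists_eq_two_pow_mul_odd hz0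
    obtain ⟨q, rfl⟩ := hm
    set z := 2 ^ l * (2 * q + 1) with hzdef
    have hsplit : z = 2 ^ (l + 1) * q + 2 ^ l := by rw [hzdef]; ring
    have hpos : 0 < 2 ^ l := Nat.two_pow_pos l
    have hlt : 2 ^ l < 2 ^ (l + 1) := by rw [pow_succ]; omega
    have hbit : ∀ i, (z &&& (z - 1)).testBit i = (z.testBit i && !decide (i = l)) := by
      intro i
      have hsub : z - 1 = 2 ^ (l + 1) * q + (2 ^ l - 1) := by omega
      rw [Nat.testBit_and, hsub, hsplit, Nat.testBit_two_pow_mul_add _ hlt,
        Nat.testBit_two_pow_mul_add _ (show 2 ^ l - 1 < 2 ^ (l + 1) by omega)]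
      by_cases hi : i < l + 1
      · simp only [hi, if_true, Nat.testBit_two_pow, Nat.testBit_two_pow_sub_one]
        by_cases hil : i = l
        · subst hil; simp
        · simp [hil, show i < l by omega, Ne.symm hil]
      · simp [hi, show i ≠ l by omega]
    have hl : l < n := by
      by_contra hl
      have h1 : 2 ^ n ≤ 2 ^ l := Nat.pow_le_pow_right (by norm_num) (by omega)
      omega
    have hzl : z.testBit l = true := by
      rw [hsplit, Nat.testBit_two_pow_mul_add _ hlt]
      simp [Nat.testBit_two_pow_self]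
    rw [leK_succ]
    refine leK_of_pcnt_le k _ (lt_of_le_of_lt Nat.and_le_left hz) ?_
    have hsum : pcnt n (z &&& (z - 1)) + 1 = pcnt n z := by
      rw [pcnt, pcnt, ← Finset.add_sum_erase _ _ (Finset.mem_range.2 hl),
        ← Finset.add_sum_erase (Finset.range n) (fun s => (z.testBit s).toNat)
          (Finset.mem_range.2 hl), hbit, hzl]
      simp only [decide_true, Bool.not_true, Bool.and_false, Bool.toNat_false, zero_add,
        Bool.toNat_true]
      rw [add_comm]
      refine congrArg _ (Finset.sum_congr rfl fun s hs => ?_)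
      rw [hbit, show decide (s = l) = false from decide_eq_false (Finset.ne_of_mem_erase hs)]
      simp
    omega

/-- The combination of a list with coefficients given by parities. -/
def combP : List (ℕ × ℕ) → ℕ → ℕ
  | [], _ => 0
  | (h, b) :: L, z => (bif par (z &&& h) then b else 0) ^^^ combP L z

theorem combP_xor : ∀ L a b, combP L (a ^^^ b) = combP L a ^^^ combP L b
  | [], a, b => by simp [combP]
  | (h, c) :: L, a, b => by
    simp only [combP, combP_xor L, par_and_xor]
    apply Nat.eq_of_testBit_eq
    intro i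
    cases par (a &&& h) <;> cases par (b &&& h) <;>
      simp [Nat.testBit_xor] <;>
      cases c.testBit i <;> cases (combP L a).testBit i <;> cases (combP L b).testBit i <;> rfl

theorem combP_eq_zero : ∀ L z, (∀ p ∈ L, par (z &&& p.1) = false) → combP L z = 0
  | [], _, _ => rfl
  | (h, c) :: L, z, hp => by
    have h1 : par (z &&& h) = false := hp (h, c) List.mem_cons_self
    simp [combP, h1, combP_eq_zero L z fun p hp' => hp p (List.mem_cons_of_mem _ hp')]

/-- Check all elements of the span. -/
noncomputable def allSub (f : ℕ → Bool) (L : List (ℕ × ℕ)) (acc : ℕ) : Bool :=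
  List.rec (fun acc => f acc)
    (fun p _ ih acc => ih acc && force (Nat.xor acc p.2) ih) L acc

theorem allSub_cons (f : ℕ → Bool) (p : ℕ × ℕ) (L : List (ℕ × ℕ)) (acc : ℕ) :
    allSub f (p :: L) acc = (allSub f L acc && force (acc ^^^ p.2) (fun a => allSub f L a)) := rfl

theorem allSub_spec (f : ℕ → Bool) :
    ∀ L acc z, allSub f L acc = true → f (acc ^^^ combP L z) = true
  | [], acc, z, h => by simpa [allSub, combP] using h
  | (p, b) :: L, acc, z, h => by
    simp only [allSub_cons, Bool.and_eq_true, force_eq] at h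
    cases hp : par (z &&& p)
    · simpa [combP, hp] using allSub_spec f L acc z h.1
    · simpa [combP, hp, Nat.xor_assoc] using allSub_spec f L (acc ^^^ b) z h.2

end CfsgLib.Ru
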