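import Cfsg.Agent.Ru.Tables
import Cfsg.Agent.Ru.DataGens4

/-! Kernel verification of the tables of automorphisms, part 4. -/

set_option autoImplicit false
set_option Elab.async false

namespace CfsgLib.Ru

theorem ghnOk : okTab ghnT ghnE = true := by decide +kernel

theorem gcnOk : okTab gcnT gcnE = true := by decide +kernel

theorem gjnOk : okTab gjnT gjnE = true := by decide +kernel

end CfsgLib.Ru
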