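import Cfsg.Agent.Ru.Bits

/-! Centralisers and relations for the outer automorphisms (generated certificate data). -/

set_option autoImplicit false
set_option maxRecDepth 100000
set_option linter.style.longLine false

namespace CfsgLib.Ru

def cAS : ℕ :=
  0x2f4634f4229ee627e7a13e6e1ce1c39e1426de73adb32ed130fd0e0bd092bcbb28cb924c840ab6e2cb4f05b4301b200cb021aa563ca4921a48049b51199d3797431925338f3368e93b889067f0357a61478a2276f167452f7391772632635385e52357d2d4d81b465094631244b1541c083a0192f50d2a918287102642a23125144030fe0e06330012200090700400000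

def cAPos : BT :=
  BT.node 2281 (BT.node 1099 (BT.node 561 (BT.node 18 (BT.node 4 (BT.leaf 0) (BT.node 9 (BT.leaf 1) (BT.leaf 2))) (BT.node 254 (BT.node 99 (BT.leaf 3) (BT.leaf 4)) (BT.node 324 (BT.leaf 5) (BT.leaf 6)))) (BT.node 681 (BT.node 612 (BT.leaf 7) (BT.node 647 (BT.leaf 8) (BT.leaf 9))) (BT.node 928 (BT.node 757 (BT.leaf 10) (BT.leaf 11)) (BT.node 1052 (BT.leaf 12) (BT.leaf 13))))) (BT.node 1830 (BT.node 1240 (BT.node 1123 (BT.leaf 14) (BT.node 1125 (BT.leaf 15) (BT.leaf 16))) (BT.node 1509 (BT.node 1405 (BT.leaf 17) (BT.leaf 18)) (BT.node 1589 (BT.leaf 19) (BT.leaf 20)))) (BT.node 1930 (BT.node 1861 (BT.node 1849 (BT.leaf 21) (BT.leaf 22)) (BT.node 1903 (BT.leaf 23) (BT.leaf 24))) (BT.node 2032 (BT.node 1958 (BT.leaf 25) (BT.leaf 26)) (BT.node 2185 (BT.leaf 27) (BT.leaf 28)))))) (BT.node 3204 (BT.node 2633 (BT.node 2420 (BT.node 2291 (BT.leaf 29) (BT.node 2341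 (BT.leaf 30) (BT.leaf 31))) (BT.node 2485 (BT.node 2461 (BT.leaf 32) (BT.leaf 33)) (BT.node 2632 (BT.leaf 34) (BT.leaf 35)))) (BT.node 2848 (BT.node 2646 (BT.leaf 36) (BT.node 2818 (BT.leaf 37) (BT.leaf 38))) (BT.node 2895 (BT.node 2883 (BT.leaf 39) (BT.leaf 40)) (BT.node 2926 (BT.leaf 41) (BT.leaf 42))))) (BT.node 3559 (BT.node 3337 (BT.node 3257 (BT.leaf 43) (BT.node 3259 (BT.leaf 44) (BT.leaf 45))) (BT.node 3347 (BT.node 3342 (BT.leaf 46) (BT.leaf 47)) (BT.node 3507 (BT.leaf 48) (BT.leaf 49)))) (BT.node 3706 (BT.node 3612 (BT.node 3604 (BT.leaf 50) (BT.leaf 51)) (BT.node 3694 (BT.leaf 52) (BT.leaf 53))) (BT.node 3906 (BT.node 3814 (BT.leaf 54) (BT.leaf 55)) (BT.node 3910 (BT.leaf 56) (BT.leaf 57))))))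

def cAReps : List ℕ :=
  [0, 9]

def cDS : ℕ :=
  0x64fcc2efc86afc305fa818fa3d0f84a9f7741f5ed6f5dd2f5ca8f4c3bf32aaf2e71f2b11eee0eee4daed829eb6c9ea796ea10de6912e5e43e4f63e493ae3b27e0accdfc09dfa35ded04dd033dcd98dbd16db074d6f30d6da7d6a38d54d7d480cd3691cfb0ace321ccc79cc475cbe48c9f8bc9895c8831c6c53c5f90c3db0c23a4bfe93bf366bd05bbcfaeb7ca5b70d3b64bab5f69b4c50b4144b4045b291ab1d2ab186fb0155ae04baca94ac96dac328ab67ba8b46a8892a754da741ba5e06a5c59a3d52a24ada190f9d4269c3c59ae869868d9846e9724c96fb294032928cf901db8ec7a8deb58d7b98c8178b5258af078aba68a7d58a24289f1989c4986fcb853ab837b881b54801147f4767ef2c7ee707e6b67bf477b75a7a24a78e5777ab1759b374c9a745737402f73002701ca6e1856d28a6d0976c3c46b9226b1156aab76a2616738166908605c85fc8c5e56b5dabb5d9725a54e592d1591c654b9b520a151ecd500ce4d3104d08f47a834776c4768245e684448941e0b406ac3fc2d3eb013e6af3dd363d5d43c6783bac23a9373723935b2335a0335256340843241331d58305652f6c32d4a22ba882b2c727bd82455121c2b201871db771bfc11ab3415cd915567147b414299139a312d8e1244f11fc010ea00e8800c6620c1600b240078240542004d0002d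

def cDPos : BT :=
  BT.node 2215 (BT.node 1143 (BT.node 690 (BT.node 313 (BT.node 198 (BT.node 120 (BT.node 77 (BT.leaf 0) (BT.node 84 (BT.leaf 1) (BT.leaf 2))) (BT.node 178 (BT.leaf 3) (BT.node 193 (BT.leaf 4) (BT.leaf 5)))) (BT.node 287 (BT.node 232 (BT.leaf 6) (BT.node 270 (BT.leaf 7) (BT.leaf 8))) (BT.node 292 (BT.leaf 9) (BT.node 301 (BT.leaf 10) (BT.leaf 11))))) (BT.node 447 (BT.node 341 (BT.node 322 (BT.leaf 12) (BT.node 327 (BT.leaf 13) (BT.leaf 14))) (BT.node 348 (BT.leaf 15) (BT.node 427 (BT.leaf 16) (BT.leaf 17)))) (BT.node 540 (BT.node 475 (BT.leaf 18) (BT.node 513 (BT.leaf 19) (BT.leaf 20))) (BT.node 581 (BT.leaf 21) (BT.node 635 (BT.leaf 22) (BT.leaf 23)))))) (BT.node 937 (BT.node 804 (BT.node 758 (BT.node 698 (BT.leaf 24) (BT.node 724 (BT.leaf 25) (BT.leaf 26))) (BT.node 773 (BT.leaf 27) (BT.node 797 (BT.leaf 28) (BT.leaf 29)))) (BT.node 858 (BT.node 832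 (BT.leaf 30) (BT.node 850 (BT.leaf 31) (BT.leaf 32))) (BT.node 859 (BT.leaf 33) (BT.node 882 (BT.leaf 34) (BT.leaf 35))))) (BT.node 1003 (BT.node 981 (BT.node 954 (BT.leaf 36) (BT.node 966 (BT.leaf 37) (BT.leaf 38))) (BT.node 989 (BT.leaf 39) (BT.node 998 (BT.leaf 40) (BT.leaf 41)))) (BT.node 1054 (BT.node 1020 (BT.leaf 42) (BT.node 1030 (BT.leaf 43) (BT.leaf 44))) (BT.node 1118 (BT.node 1092 (BT.leaf 45) (BT.leaf 46)) (BT.node 1142 (BT.leaf 47) (BT.leaf 48))))))) (BT.node 1746 (BT.node 1498 (BT.node 1312 (BT.node 1235 (BT.node 1146 (BT.leaf 49) (BT.node 1232 (BT.leaf 50) (BT.leaf 51))) (BT.node 1280 (BT.leaf 52) (BT.node 1310 (BT.leaf 53) (BT.leaf 54)))) (BT.node 1426 (BT.node 1355 (BT.leaf 55) (BT.node 1425 (BT.leaf 56) (BT.leaf 57))) (BT.node 1445 (BT.leaf 58) (BT.node 1497 (BT.leaf 59) (BT.leaf 60))))) (BT.node 1698 (BT.node 1541 (BT.node 1509 (BT.leaf 61) (BT.node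 1532 (BT.leaf 62) (BT.leaf 63))) (BT.node 1641 (BT.leaf 64) (BT.node 1651 (BT.leaf 65) (BT.leaf 66)))) (BT.node 1721 (BT.node 1706 (BT.leaf 67) (BT.node 1713 (BT.leaf 68) (BT.leaf 69))) (BT.node 1731 (BT.leaf 70) (BT.node 1744 (BT.leaf 71) (BT.leaf 72)))))) (BT.node 1983 (BT.node 1868 (BT.node 1840 (BT.node 1761 (BT.leaf 73) (BT.node 1793 (BT.leaf 74) (BT.leaf 75))) (BT.node 1856 (BT.leaf 76) (BT.node 1861 (BT.leaf 77) (BT.leaf 78)))) (BT.node 1934 (BT.node 1881 (BT.leaf 79) (BT.node 1914 (BT.leaf 80) (BT.leaf 81))) (BT.node 1954 (BT.leaf 82) (BT.node 1975 (BT.leaf 83) (BT.leaf 84))))) (BT.node 2075 (BT.node 2031 (BT.node 2022 (BT.leaf 85) (BT.node 2030 (BT.leaf 86) (BT.leaf 87))) (BT.node 2036 (BT.leaf 88) (BT.node 2049 (BT.leaf 89) (BT.leaf 90)))) (BT.node 2159 (BT.node 2103 (BT.leaf 91) (BT.node 2131 (BT.leaf 92) (BT.leaf 93))) (BT.node 2207 (BT.node 2204 (BT.leaf 94)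 (BT.leaf 95)) (BT.node 2210 (BT.leaf 96) (BT.leaf 97)))))))) (BT.node 3167 (BT.node 2677 (BT.node 2418 (BT.node 2270 (BT.node 2229 (BT.node 2219 (BT.leaf 98) (BT.node 2223 (BT.leaf 99) (BT.leaf 100))) (BT.node 2248 (BT.leaf 101) (BT.node 2263 (BT.leaf 102) (BT.leaf 103)))) (BT.node 2344 (BT.node 2284 (BT.leaf 104) (BT.node 2305 (BT.leaf 105) (BT.leaf 106))) (BT.node 2368 (BT.leaf 107) (BT.node 2415 (BT.leaf 108) (BT.leaf 109))))) (BT.node 2585 (BT.node 2478 (BT.node 2436 (BT.leaf 110) (BT.node 2438 (BT.leaf 111) (BT.leaf 112))) (BT.node 2499 (BT.leaf 113) (BT.node 2516 (BT.leaf 114) (BT.leaf 115)))) (BT.node 2652 (BT.node 2596 (BT.leaf 116) (BT.node 2621 (BT.leaf 117) (BT.leaf 118))) (BT.node 2654 (BT.leaf 119) (BT.node 2676 (BT.leaf 120) (BT.leaf 121)))))) (BT.node 2880 (BT.node 2762 (BT.node 2742 (BT.node 2696 (BT.leaf 122) (BT.node 2699 (BT.leaf 123) (BT.leaf 124)))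 (BT.node 2755 (BT.leaf 125) (BT.node 2761 (BT.leaf 126) (BT.leaf 127)))) (BT.node 2840 (BT.node 2784 (BT.leaf 128) (BT.node 2817 (BT.leaf 129) (BT.leaf 130))) (BT.node 2845 (BT.leaf 131) (BT.node 2857 (BT.leaf 132) (BT.leaf 133))))) (BT.node 2940 (BT.node 2911 (BT.node 2881 (BT.leaf 134) (BT.node 2892 (BT.leaf 135) (BT.leaf 136))) (BT.node 2916 (BT.leaf 137) (BT.node 2928 (BT.leaf 138) (BT.leaf 139)))) (BT.node 3059 (BT.node 3023 (BT.leaf 140) (BT.node 3024 (BT.leaf 141) (BT.leaf 142))) (BT.node 3107 (BT.node 3070 (BT.leaf 143) (BT.leaf 144)) (BT.node 3133 (BT.leaf 145) (BT.leaf 146))))))) (BT.node 3643 (BT.node 3412 (BT.node 3268 (BT.node 3224 (BT.node 3180 (BT.leaf 147) (BT.node 3208 (BT.leaf 148) (BT.leaf 149))) (BT.node 3231 (BT.leaf 150) (BT.node 3262 (BT.leaf 151) (BT.leaf 152)))) (BT.node 3323 (BT.node 3276 (BT.leaf 153) (BT.node 3299 (BT.leaf 154) (BT.leaf 155)))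 (BT.node 3382 (BT.leaf 156) (BT.node 3400 (BT.leaf 157) (BT.leaf 158))))) (BT.node 3533 (BT.node 3439 (BT.node 3434 (BT.leaf 159) (BT.node 3437 (BT.leaf 160) (BT.leaf 161))) (BT.node 3504 (BT.leaf 162) (BT.node 3517 (BT.leaf 163) (BT.leaf 164)))) (BT.node 3578 (BT.node 3536 (BT.leaf 165) (BT.node 3565 (BT.leaf 166) (BT.leaf 167))) (BT.node 3580 (BT.leaf 168) (BT.node 3594 (BT.leaf 169) (BT.leaf 170)))))) (BT.node 3886 (BT.node 3751 (BT.node 3678 (BT.node 3657 (BT.leaf 171) (BT.node 3663 (BT.leaf 172) (BT.leaf 173))) (BT.node 3689 (BT.leaf 174) (BT.node 3745 (BT.leaf 175) (BT.leaf 176)))) (BT.node 3812 (BT.node 3766 (BT.leaf 177) (BT.node 3800 (BT.leaf 178) (BT.leaf 179))) (BT.node 3822 (BT.leaf 180) (BT.node 3883 (BT.leaf 181) (BT.leaf 182))))) (BT.node 3959 (BT.node 3932 (BT.node 3890 (BT.leaf 183) (BT.node 3916 (BT.leaf 184) (BT.leaf 185))) (BT.node 3933 (BT.leaf 186)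 (BT.node 3934 (BT.leaf 187) (BT.leaf 188)))) (BT.node 4008 (BT.node 3972 (BT.leaf 189) (BT.node 4003 (BT.leaf 190) (BT.leaf 191))) (BT.node 4040 (BT.node 4035 (BT.leaf 192) (BT.leaf 193)) (BT.node 4044 (BT.leaf 194) (BT.leaf 195))))))))

def cDReps : List ℕ :=
  [45, 77, 120, 178, 198, 232, 270]

def outChk : ℕ :=
  0x101010101010101010101010101010101010101010101010101010101010107010101010101010101010101010101010101010101010100

def wordB : List ℕ :=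
  [0, 0, 1, 0, 2, 0, 0, 2, 1, 0, 1, 1, 2, 0, 1, 2, 0, 0, 1, 2, 0, 1, 0, 1, 0, 2, 1, 0, 0, 2, 1]

def wordX : List ℕ :=
  [0, 0, 0, 2, 0, 0, 1, 2, 0, 2, 1, 1, 0, 0, 1, 1, 1, 2, 0, 2, 1, 0, 1, 2, 0, 0, 0, 2, 1, 0, 1, 0]

def wordY : List ℕ :=
  [0, 1, 2, 0, 1, 0, 1, 0, 2, 0, 1, 0, 0, 2, 0, 1, 2, 0, 2, 1, 1, 1, 0, 0, 1, 2, 0, 0, 1]

def relWords : List (List ℕ × ℕ) :=
  [([0, 2], 20), ([0, 0, 2], 8), ([0, 2, 2], 29), ([0, 1, 2], 26), ([0, 2, 1], 15), ([0, 0, 0, 2], 20), ([0, 2, 0, 0, 2], 10), ([0, 0, 1, 2], 7), ([1, 2], 2), ([2], 2)]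

end CfsgLib.Ru
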