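import Cfsg.Agent.Ru.Rel
import Cfsg.Agent.Ru.CheckGens4
import Cfsg.Agent.Ru.DataOut

/-!
The centralisers in `Ru` of an element of order 29 and of one of order 7.
-/

set_option autoImplicit false
set_option Elab.async false

namespace CfsgLib.Ru

open Cfsg.Spor

theorem good_h14 : GoodTab ghnT := goodTab_of_ok ghnOk

theorem good_c6 : GoodTab gcnT := goodTab_of_ok gcnOk

theorem good_j2 : GoodTab gjnT := goodTab_of_ok gjnOk

/-- The element of order 29. -/
noncomputable def eA : RL := el (goodAB 0)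

/-- An element of order 14 normalising `⟨eA⟩`. -/
noncomputable def eH : RL := el good_h14

/-- An element inverting `eH ^ 2` by the exponent 6. -/
noncomputable def eC : RL := el good_c6

/-- An involution commuting with `eH`. -/
noncomputable def eJ : RL := el good_j2

/-- An entry of a table of centraliser classes. -/
noncomputable def cEnt (S i : ℕ) : ℕ := ext S 20 1048575 i

/-- Its line. -/
noncomputable def cLine (S i : ℕ) : ℕ := Nat.land (cEnt S i) 4095

/-- Its element. -/
noncomputable def cElt (S i : ℕ) : ℕ := Nat.land (Nat.shiftRight (cEnt S i) 12) 31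

/-- Its representative. -/
noncomputable def cRep (S i : ℕ) : ℕ := Nat.shiftRight (cEnt S i) 17

/-- The profile of a line. -/
noncomputable def prof (T m x l : ℕ) : Bool :=
  allN m fun i => Nat.beq (relN l (lineIt T (Nat.add i 1) l)) (relN x (lineIt T (Nat.add i 1) x))

/-- Two lines are related to each other's orbit as two others are. -/
noncomputable def compat (T m x y q z : ℕ) : Bool :=
  allN m fun i => Nat.beq (relN q (lineIt T i z)) (relN x (lineIt T i y))

theorem lineIt_smul {T : ℕ} (hT : GoodTab T) (i : ℕ) (l : Ln) :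
    lineIt T i l.1 = (el hT ^ i • l).1 := (el_pow_smul hT i l).symm

theorem prof_smul {T : ℕ} (hT : GoodTab T) {g : RL} (hg : Commute g (el hT)) (m : ℕ) (x : Ln) :
    prof T m x.1 (g • x).1 = true := allN_iff.2 fun i _ => by
  rw [lineIt_smul hT, lineIt_smul hT,
    show el hT ^ (Nat.add i 1) • g • x = g • el hT ^ (Nat.add i 1) • x by
      rw [← mul_smul, ← mul_smul, ((hg.pow_right _).eq)], relN_smul]
  exact Nat.beq_refl _

theorem compat_smul {T : ℕ} (hT : GoodTab T) {g : RL} (hg : Commute g (el hT)) (m : ℕ)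
    (x y : Ln) : compat T m x.1 y.1 (g • x).1 (g • y).1 = true := allN_iff.2 fun i _ => by
  rw [lineIt_smul hT, lineIt_smul hT,
    show el hT ^ i • g • y = g • el hT ^ i • y by
      rw [← mul_smul, ← mul_smul, ((hg.pow_right _).eq)], relN_smul]
  exact Nat.beq_refl _

theorem fix_orbit {T : ℕ} (hT : GoodTab T) {g : RL} (hg : Commute g (el hT)) {x : ℕ}
    (hx : x < 4060) (h : g • mkLn x = mkLn x) (i : ℕ) :
    lineIt T i x < 4060 ∧ g • mkLn (lineIt T i x) = mkLn (lineIt T i x) := by
  have e : mkLn (lineIt T i x) = el hT ^ i • mkLn x := by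
    rw [← mkLn_eq (el hT ^ i • mkLn x), ← lineIt_smul hT, mkLn_val hx]
  refine ⟨?_, ?_⟩
  · have h1 := (el hT ^ i • mkLn x).2
    rwa [← lineIt_smul hT, mkLn_val hx] at h1
  · rw [e, ← mul_smul, (hg.pow_right i).eq, mul_smul, h]

/-! ### Order 29 -/

/-- The classes for order 29. -/
noncomputable def okSA (l : ℕ) : Bool :=
  bif prof gaT 14 0 l then
    Nat.blt (cAPos.search l) 58 && Nat.beq (cLine cAS (cAPos.search l)) l &&
      Nat.blt (cRep cAS (cAPos.search l)) 2 &&
      Nat.beq (lineIt gaT (cElt cAS (cAPos.search l)) (cAReps.getD (cRep cAS (cAPos.search l)) 0)) l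
  else true

/-- The pairs for order 29. -/
noncomputable def okPA (k : ℕ) : Bool :=
  bif compat gaT 29 0 9 (cAReps.getD (Nat.div k 58) 0) (cLine cAS (Nat.mod k 58)) then
    Nat.beq (cAReps.getD (Nat.div k 58) 0) 0 && Nat.beq (cLine cAS (Nat.mod k 58)) 9
  else true

/-- The fixed points for order 29. -/
noncomputable def ptsA (i : ℕ) : ℕ :=
  bif Nat.blt i 29 then lineIt gaT i 0 else lineIt gaT (Nat.sub i 29) 9

theorem okSA_all : allR 4060 okSA 12 0 = true := by decide +kernel

theorem okPA_all : allR 116 okPA 7 0 = true := by decide +kernel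

theorem nine_prof : prof gaT 14 0 9 = true := by decide +kernel

theorem uniqA : allR 4060 (okUniq 58 ptsA) 12 0 = true := by decide +kernel

theorem repsA_lt : ∀ i < 2, cAReps.getD i 0 < 4060 := by decide +kernel

theorem class_memA {g : RL} (hg : Commute g eA) {x : ℕ} (hx : x < 4060)
    (hp : prof gaT 14 0 x = true) :
    ∃ i < 58, cLine cAS i = (g • mkLn x).1 ∧ cRep cAS i < 2 ∧
      lineIt gaT (cElt cAS i) (cAReps.getD (cRep cAS i) 0) = (g • mkLn x).1 := by
  have hprof : prof gaT 14 0 (g • mkLn x).1 = true := by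
    refine allN_iff.2 fun i hi => ?_
    have h1 := allN_iff.1 (prof_smul (goodAB 0) hg 14 (mkLn x)) i hi
    have h2 := allN_iff.1 hp i hi
    rw [mkLn_val hx] at h1
    rw [show relN (g • mkLn x).1 (lineIt gaT (Nat.add i 1) (g • mkLn x).1) =
      relN x (lineIt gaT (Nat.add i 1) x) from Nat.eq_of_beq_eq_true h1]
    exact h2
  have h := allR_zero okSA_all (by norm_num) _ (g • mkLn x).2
  rw [okSA, hprof, cond_true] at h
  simp only [Bool.and_eq_true] at h
  exact ⟨_, Nat.le_of_ble_eq_true h.1.1.1, Nat.eq_of_beq_eq_true h.1.1.2,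
    Nat.le_of_ble_eq_true h.1.2, Nat.eq_of_beq_eq_true h.2⟩

theorem centralA {g : RL} (hg : Commute g eA) : ∃ t, g = eA ^ t := by
  have hp0 : prof gaT 14 0 0 = true := allN_iff.2 fun i _ => Nat.beq_refl _
  obtain ⟨i, -, -, hr, hi⟩ := class_memA hg (x := 0) (by norm_num) hp0
  set t := cElt cAS i
  set g' := (eA ^ t)⁻¹ * g with hg'
  have hc : Commute g' eA := ((Commute.refl eA).pow_left t).inv_left.mul_left hg
  set q := cAReps.getD (cRep cAS i) 0 with hq
  have hql : q < 4060 := repsA_lt _ hr
  have e0 : g' • mkLn 0 = mkLn q := by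
    rw [hg', mul_smul, inv_smul_eq_iff]
    refine Fin.ext ?_
    rw [eA, el_pow_smul, mkLn_val hql]
    exact hi.symm
  obtain ⟨k, hk, hline, -, -⟩ := class_memA hc (x := 9) (by norm_num) nine_prof
  have hcp := compat_smul (goodAB 0) hc 29 (mkLn 0) (mkLn 9)
  rw [e0, mkLn_val hql, mkLn_val (show 0 < 4060 by norm_num),
    mkLn_val (show 9 < 4060 by norm_num), ← hline] at hcp
  have h := allR_zero okPA_all (by norm_num) (58 * cRep cAS i + k) (by omega)
  rw [okPA, show Nat.div (58 * cRep cAS i + k) 58 = cRep cAS i from (by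
      show (58 * cRep cAS i + k) / 58 = _; omega),
    show Nat.mod (58 * cRep cAS i + k) 58 = k from (by
      show (58 * cRep cAS i + k) % 58 = _; omega), ← hq,
    show compat gaT 29 0 9 q (cLine cAS k) = true from hcp, cond_true, Bool.and_eq_true] at h
  have f0 : g' • mkLn 0 = mkLn 0 := by rw [e0, Nat.eq_of_beq_eq_true h.1]
  have f9 : g' • mkLn 9 = mkLn 9 := Fin.ext (by
    rw [← hline, Nat.eq_of_beq_eq_true h.2, mkLn_val (by norm_num)])
  have key : ∀ i < 58, ptsA i < 4060 ∧ g' • mkLn (ptsA i) = mkLn (ptsA i) := by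
    intro i hi
    unfold ptsA
    cases Nat.blt i 29
    · exact fix_orbit (goodAB 0) hc (by norm_num) f9 _
    · exact fix_orbit (goodAB 0) hc (by norm_num) f0 _
  refine ⟨t, (inv_mul_eq_one.1 ?_).symm⟩
  exact eq_one_of_fix (fun i hi => (key i hi).1) uniqA fun i hi => (key i hi).2

/-! ### Order 7 -/

/-- The images under the centralising elements. -/
noncomputable def centImg (k q : ℕ) : ℕ :=
  lineIt ghnT (Nat.div k 2) (lineIt gjnT (Nat.mod k 2) q)

/-- The centralising elements. -/
noncomputable def centEl (k : ℕ) : RL := eH ^ (k / 2) * eJ ^ (k % 2)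

theorem centImg_eq (k : ℕ) (l : Ln) : (centEl k • l).1 = centImg k l.1 := by
  rw [centEl, eH, eJ, mul_smul, el_pow_smul, el_pow_smul]
  rfl

/-- The table of `eH ^ 2` as an action on lines. -/
noncomputable def dIt (i l : ℕ) : ℕ := lineIt ghnT (Nat.mul 2 i) l

/-- The profile for order 7. -/
noncomputable def profD (x l : ℕ) : Bool :=
  allN 3 fun i => Nat.beq (relN l (dIt (Nat.add i 1) l)) (relN x (dIt (Nat.add i 1) x))

/-- The relation with an orbit for order 7. -/
noncomputable def compatD (x y q z : ℕ) : Bool :=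
  allN 7 fun i => Nat.beq (relN q (dIt i z)) (relN x (dIt i y))

/-- The classes for order 7. -/
noncomputable def okSD (l : ℕ) : Bool :=
  bif profD 45 l then
    Nat.blt (cDPos.search l) 196 && Nat.beq (cLine cDS (cDPos.search l)) l &&
      Nat.blt (cRep cDS (cDPos.search l)) 7 &&
      Nat.beq (centImg (cElt cDS (cDPos.search l)) (cDReps.getD (cRep cDS (cDPos.search l)) 0)) l
  else true

/-- The triples for order 7. -/
noncomputable def okPD (k : ℕ) : Bool :=
  bif compatD 45 270 (cDReps.getD (Nat.div k 196) 0) (cLine cDS (Nat.mod k 196)) then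
    allN 196 fun n =>
      bif compatD 45 77 (cDReps.getD (Nat.div k 196) 0) (cLine cDS n) &&
          compatD 270 77 (cLine cDS (Nat.mod k 196)) (cLine cDS n) then
        Nat.beq (cDReps.getD (Nat.div k 196) 0) 45 && Nat.beq (cLine cDS (Nat.mod k 196)) 270 &&
          Nat.beq (cLine cDS n) 77
      else true
  else true

/-- The fixed points for order 7. -/
noncomputable def ptsD (i : ℕ) : ℕ :=
  bif Nat.blt i 7 then dIt i 45 else bif Nat.blt i 14 then dIt (Nat.sub i 7) 270
    else dIt (Nat.sub i 14) 77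

theorem okSD_all : allR 4060 okSD 12 0 = true := by decide +kernel

theorem okPD_all : allR 1372 okPD 11 0 = true := by decide +kernel

theorem others_prof : profD 45 270 = true ∧ profD 45 77 = true := by decide +kernel

theorem uniqD : allR 4060 (okUniq 21 ptsD) 12 0 = true := by decide +kernel

theorem repsD_lt : ∀ i < 7, cDReps.getD i 0 < 4060 := by decide +kernel

theorem okComm_all : ∀ k < 5, lineImg gjnT (lineIt ghnT 1 (bl k)) =
    lineIt ghnT 1 (lineImg gjnT (bl k)) := by
  decide +kernel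

theorem commute_HJ : Commute eH eJ := by
  refine RL_ext fun k hk => Fin.ext ?_
  have hb : (blL k).1 = bl k := by
    rw [blL_eq k hk]
    show (refP k).1 / 4 = bl k
    rw [show (refP k).1 = baseN k from refN_base k hk]
    rfl
  rw [eH, eJ, mul_smul, mul_smul, el_smul, el_smul, el_smul, el_smul, hb]
  exact (okComm_all k hk).symm

theorem dIt_smul (i : ℕ) (l : Ln) : dIt i l.1 = ((eH ^ 2) ^ i • l).1 := by
  rw [← pow_mul, eH, el_pow_smul]
  rfl

theorem compatD_smul {g : RL} (hg : Commute g (eH ^ 2)) (x y : Ln) :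
    compatD x.1 y.1 (g • x).1 (g • y).1 = true := allN_iff.2 fun i _ => by
  rw [dIt_smul, dIt_smul,
    show (eH ^ 2) ^ i • g • y = g • (eH ^ 2) ^ i • y by
      rw [← mul_smul, ← mul_smul, ((hg.pow_right _).eq)], relN_smul]
  exact Nat.beq_refl _

theorem class_memD {g : RL} (hg : Commute g (eH ^ 2)) {x : ℕ} (hx : x < 4060)
    (hp : profD 45 x = true) :
    ∃ i < 196, cLine cDS i = (g • mkLn x).1 ∧ cRep cDS i < 7 ∧
      centImg (cElt cDS i) (cDReps.getD (cRep cDS i) 0) = (g • mkLn x).1 := by
  have hprof : profD 45 (g • mkLn x).1 = true := by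
    refine allN_iff.2 fun i hi => ?_
    have h2 := allN_iff.1 hp i hi
    have e : relN (g • mkLn x).1 (dIt (Nat.add i 1) (g • mkLn x).1) =
        relN x (dIt (Nat.add i 1) x) := by
      rw [dIt_smul, show (eH ^ 2) ^ (Nat.add i 1) • g • mkLn x =
          g • (eH ^ 2) ^ (Nat.add i 1) • mkLn x by
        rw [← mul_smul, ← mul_smul, ((hg.pow_right _).eq)], relN_smul, ← dIt_smul, mkLn_val hx]
    rw [e]
    exact h2
  have h := allR_zero okSD_all (by norm_num) _ (g • mkLn x).2
  rw [okSD, hprof, cond_true] at h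
  simp only [Bool.and_eq_true] at h
  exact ⟨_, Nat.le_of_ble_eq_true h.1.1.1, Nat.eq_of_beq_eq_true h.1.1.2,
    Nat.le_of_ble_eq_true h.1.2, Nat.eq_of_beq_eq_true h.2⟩

theorem centralD {g : RL} (hg : Commute g (eH ^ 2)) : ∃ k < 32, g = centEl k := by
  have hp0 : profD 45 45 = true := allN_iff.2 fun i _ => Nat.beq_refl _
  obtain ⟨i, -, -, hr, hi⟩ := class_memD hg (x := 45) (by norm_num) hp0
  set t := cElt cDS i with ht
  set g' := (centEl t)⁻¹ * g with hg'
  have hcent : Commute (centEl t) (eH ^ 2) :=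
    (((Commute.refl eH).pow_left _).mul_left (commute_HJ.symm.pow_left _)).pow_right 2
  have hc : Commute g' (eH ^ 2) := hcent.inv_left.mul_left hg
  set q := cDReps.getD (cRep cDS i) 0 with hq
  have hql : q < 4060 := repsD_lt _ hr
  have e0 : g' • mkLn 45 = mkLn q := by
    rw [hg', mul_smul, inv_smul_eq_iff]
    refine Fin.ext ?_
    rw [centImg_eq, mkLn_val hql]
    exact hi.symm
  obtain ⟨k, hk, hlk, -, -⟩ := class_memD hc (x := 270) (by norm_num) others_prof.1
  obtain ⟨n, hn, hln, -, -⟩ := class_memD hc (x := 77) (by norm_num) others_prof.2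
  have c1 := compatD_smul hc (mkLn 45) (mkLn 270)
  have c2 := compatD_smul hc (mkLn 45) (mkLn 77)
  have c3 := compatD_smul hc (mkLn 270) (mkLn 77)
  rw [e0, mkLn_val hql, mkLn_val (show 45 < 4060 by norm_num),
    mkLn_val (show 270 < 4060 by norm_num), ← hlk] at c1
  rw [e0, mkLn_val hql, mkLn_val (show 45 < 4060 by norm_num),
    mkLn_val (show 77 < 4060 by norm_num), ← hln] at c2
  rw [mkLn_val (show 270 < 4060 by norm_num), mkLn_val (show 77 < 4060 by norm_num), ← hlk,
    ← hln] at c3
  have h := allR_zero okPD_all (by norm_num) (196 * cRep cDS i + k) (by omega)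
  rw [okPD, show Nat.div (196 * cRep cDS i + k) 196 = cRep cDS i from (by
      show (196 * cRep cDS i + k) / 196 = _; omega),
    show Nat.mod (196 * cRep cDS i + k) 196 = k from (by
      show (196 * cRep cDS i + k) % 196 = _; omega), ← hq, c1, cond_true] at h
  have h' := allN_iff.1 h n hn
  rw [c2, c3, Bool.true_and, cond_true] at h'
  simp only [Bool.and_eq_true] at h'
  have f1 : g' • mkLn 45 = mkLn 45 := by rw [e0, Nat.eq_of_beq_eq_true h'.1.1]
  have f2 : g' • mkLn 270 = mkLn 270 := Fin.ext (by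
    rw [← hlk, Nat.eq_of_beq_eq_true h'.1.2, mkLn_val (by norm_num)])
  have f3 : g' • mkLn 77 = mkLn 77 := Fin.ext (by
    rw [← hln, Nat.eq_of_beq_eq_true h'.2, mkLn_val (by norm_num)])
  have fixd : ∀ x, x < 4060 → g' • mkLn x = mkLn x → ∀ i,
      dIt i x < 4060 ∧ g' • mkLn (dIt i x) = mkLn (dIt i x) := by
    intro x hx h i
    have e : mkLn (dIt i x) = (eH ^ 2) ^ i • mkLn x := by
      rw [← mkLn_eq ((eH ^ 2) ^ i • mkLn x), ← dIt_smul, mkLn_val hx]
    refine ⟨?_, ?_⟩
    · have h1 := ((eH ^ 2) ^ i • mkLn x).2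
      rwa [← dIt_smul, mkLn_val hx] at h1
    · rw [e, ← mul_smul, (hc.pow_right i).eq, mul_smul, h]
  have key : ∀ i < 21, ptsD i < 4060 ∧ g' • mkLn (ptsD i) = mkLn (ptsD i) := by
    intro i hi
    unfold ptsD
    cases Nat.blt i 7
    · cases Nat.blt i 14
      · exact fixd _ (by norm_num) f3 _
      · exact fixd _ (by norm_num) f2 _
    · exact fixd _ (by norm_num) f1 _
  refine ⟨t, lt_of_le_of_lt Nat.and_le_right (by norm_num), (inv_mul_eq_one.1 ?_).symm⟩
  exact eq_one_of_fix (fun i hi => (key i hi).1) uniqD fun i hi => (key i hi).2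

end CfsgLib.Ru
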