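import Cfsg.Agent.Ru.Centralisers
import Cfsg.Agent.SporadicOut.Criterion

/-!
`Ru` has no outer automorphisms: after an inner automorphism, three generators are fixed.
-/

set_option autoImplicit false
set_option Elab.async false

namespace CfsgLib.Ru

open Cfsg.Spor

/-- The three generators. -/
noncomputable def outGen : ℕ → RL
  | 0 => eA
  | 1 => eH
  | _ => eC

/-- The action of the three generators on lines. -/
noncomputable def outImg (i l : ℕ) : ℕ :=
  bif Nat.beq i 0 then lineImg gaT l else bif Nat.beq i 1 then lineImg ghnT l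
    else lineImg gcnT l

/-- The possible images of the generators. -/
noncomputable def newGen (k m : ℕ) : ℕ → RL
  | 0 => eA ^ k
  | 1 => eH
  | _ => eC * centEl m

/-- Their action on lines. -/
noncomputable def newImg (k m i l : ℕ) : ℕ :=
  bif Nat.beq i 0 then lineIt gaT k l else bif Nat.beq i 1 then lineImg ghnT l
    else lineImg gcnT (centImg m l)

/-- The image of a line under a word in given maps. -/
noncomputable def wimgF (F : ℕ → ℕ → ℕ) (w : List ℕ) (l : ℕ) : ℕ :=
  List.rec l (fun i _ ih => F i ih) w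

/-- The image of a line under a power of a word. -/
noncomputable def powF (F : ℕ → ℕ → ℕ) (w : List ℕ) (o l : ℕ) : ℕ :=
  Nat.rec l (fun _ ih => wimgF F w ih) o

theorem wimgF_smul {F : ℕ → ℕ → ℕ} {t : ℕ → RL} (h : ∀ i (l : Ln), (t i • l).1 = F i l.1) :
    ∀ (w : List ℕ) (l : Ln), ((w.map t).prod • l).1 = wimgF F w l.1
  | [], l => by rw [List.map_nil, List.prod_nil, one_smul]; rfl
  | i :: w, l => by
    rw [List.map_cons, List.prod_cons, mul_smul, h, wimgF_smul h w l]
    rfl

theorem powF_smul {F : ℕ → ℕ → ℕ} {t : ℕ → RL} (h : ∀ i (l : Ln), (t i • l).1 = F i l.1)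
    (w : List ℕ) : ∀ (o : ℕ) (l : Ln), ((w.map t).prod ^ o • l).1 = powF F w o l.1
  | 0, l => by rw [pow_zero, one_smul]; rfl
  | o + 1, l => by
    rw [pow_succ', mul_smul, wimgF_smul h, powF_smul h w o l]
    rfl

theorem outImg_smul : ∀ i (l : Ln), (outGen i • l).1 = outImg i l.1
  | 0, l => el_smul (goodAB 0) l
  | 1, l => el_smul good_h14 l
  | _ + 2, l => el_smul good_c6 l

theorem newImg_smul (k m : ℕ) : ∀ i (l : Ln), (newGen k m i • l).1 = newImg k m i l.1
  | 0, l => el_pow_smul (goodAB 0) k l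
  | 1, l => el_smul good_h14 l
  | i + 2, l => by
    show ((eC * centEl m) • l).1 = lineImg gcnT (centImg m l.1)
    rw [mul_smul, eC, el_smul, centImg_eq]

theorem blL_val {k : ℕ} (hk : k < 5) : (blL k).1 = bl k := by
  rw [blL_eq k hk]
  show (refP k).1 / 4 = bl k
  rw [show (refP k).1 = baseN k from refN_base k hk]
  rfl

/-! ### Relations -/

theorem rel_checks : ∀ k < 5, lineImg ghnT (lineImg gaT (bl k)) = lineIt gaT 4 (lineImg ghnT (bl k)) ∧
    lineImg gcnT (lineIt ghnT 2 (bl k)) = lineIt ghnT 12 (lineImg gcnT (bl k)) ∧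
    lineIt gaT 29 (bl k) = bl k ∧ lineIt ghnT 14 (bl k) = bl k := by
  decide +kernel

theorem h_conj : eH * eA = eA ^ 4 * eH := RL_ext fun k hk => Fin.ext (by
  rw [mul_smul, mul_smul, eH, eA, el_smul, el_smul, el_pow_smul, el_smul, blL_val hk]
  exact (rel_checks k hk).1)

theorem c_conj : eC * eH ^ 2 = (eH ^ 2) ^ 6 * eC := RL_ext fun k hk => Fin.ext (by
  rw [← pow_mul, mul_smul, mul_smul, eH, eC, el_smul, el_pow_smul, el_pow_smul, el_smul,
    blL_val hk]
  exact (rel_checks k hk).2.1)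

theorem a_pow29 : eA ^ 29 = 1 := RL_ext fun k hk => Fin.ext (by
  rw [one_smul, eA, el_pow_smul, blL_val hk]
  exact (rel_checks k hk).2.2.1)

theorem h_pow14 : eH ^ 14 = 1 := RL_ext fun k hk => Fin.ext (by
  rw [one_smul, eH, el_pow_smul, blL_val hk]
  exact (rel_checks k hk).2.2.2)

theorem a_ne_one : eA ≠ 1 := by
  intro h
  have h1 := congrArg (fun r : RL => (r • blL 0).1) h
  simp only [one_smul, eA, el_smul, blL_val (show 0 < 5 by norm_num)] at h1
  exact (by decide +kernel : lineImg (abT 0) (bl 0) ≠ bl 0) h1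

theorem orderOf_eA : orderOf eA = 29 :=
  have : Fact (Nat.Prime 29) := ⟨by norm_num⟩
  orderOf_eq_prime a_pow29 a_ne_one

/-- The rule of one possible image. -/
noncomputable def okImage (n : ℕ) : Bool :=
  Nat.beq n 0 || (force (ext outChk 8 255 n) fun e =>
    force (Nat.land e 15) fun i => force (Nat.shiftRight e 4) fun p =>
      Nat.blt i 10 && Nat.blt p 5 &&
        allN 5 (fun k => Nat.beq
          (powF outImg (relWords.getD i ([], 0)).1 (relWords.getD i ([], 0)).2 (bl k)) (bl k)) &&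
        !Nat.beq (powF (newImg (Nat.add (Nat.div n 28) 1) (Nat.mod n 28))
          (relWords.getD i ([], 0)).1 (relWords.getD i ([], 0)).2 (bl p)) (bl p))

theorem okImage_all : allR 56 okImage 6 0 = true := by decide +kernel

theorem image_eq (ψ : MulAut RL) {k m : ℕ} (hk : k = 1 ∨ k = 2) (hm : m < 28)
    (h : ∀ i, ψ (outGen i) = newGen k m i) : k = 1 ∧ m = 0 := by
  by_contra hne
  have hn0 : 28 * (k - 1) + m ≠ 0 := by omega
  have hc := allR_zero okImage_all (by norm_num) (28 * (k - 1) + m) (by omega)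
  simp only [okImage, force_eq, Bool.or_eq_true, Bool.and_eq_true, Bool.not_eq_true'] at hc
  rcases hc with hc | ⟨⟨⟨-, hp⟩, hw⟩, hne'⟩
  · exact hn0 (Nat.eq_of_beq_eq_true hc)
  rw [show Nat.add (Nat.div (28 * (k - 1) + m) 28) 1 = k from (by
      show (28 * (k - 1) + m) / 28 + 1 = k; omega),
    show Nat.mod (28 * (k - 1) + m) 28 = m from (by
      show (28 * (k - 1) + m) % 28 = m; omega)] at hne'
  set wo := relWords.getD (Nat.land (ext outChk 8 255 (28 * (k - 1) + m)) 15) ([], 0)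
  set p := Nat.shiftRight (ext outChk 8 255 (28 * (k - 1) + m)) 4
  have hp' : p < 5 := Nat.le_of_ble_eq_true hp
  have h1 : (wo.1.map outGen).prod ^ wo.2 = 1 := RL_ext fun j hj => Fin.ext (by
    rw [one_smul, powF_smul outImg_smul, blL_val hj]
    exact Nat.eq_of_beq_eq_true (allN_iff.1 hw j hj))
  have h2 : (wo.1.map (newGen k m)).prod ^ wo.2 = 1 := by
    have e := congrArg ψ h1
    rw [map_pow, map_one, map_list_prod, List.map_map,
      show ⇑ψ ∘ outGen = newGen k m from funext h] at e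
    exact e
  have e := powF_smul (newImg_smul k m) wo.1 wo.2 (blL p)
  rw [h2, one_smul, blL_val hp'] at e
  rw [← e, Nat.beq_refl] at hne'
  exact Bool.noConfusion hne'

/-! ### Generation -/

theorem word_checks : ∀ k < 5, wimgF outImg wordB (bl k) = lineImg gbT (bl k) ∧
    wimgF outImg wordX (bl k) = lineImg gxT (bl k) ∧
    wimgF outImg wordY (bl k) = lineImg gyT (bl k) := by
  decide +kernel

theorem closure_outGen : Subgroup.closure (Set.range fun i : Fin 3 => outGen i.1) = ⊤ := by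
  set S := Subgroup.closure (Set.range fun i : Fin 3 => outGen i.1) with hS
  have hgen : ∀ i, outGen i ∈ S := by
    intro i
    match i with
    | 0 => exact Subgroup.subset_closure ⟨0, rfl⟩
    | 1 => exact Subgroup.subset_closure ⟨1, rfl⟩
    | _ + 2 => exact Subgroup.subset_closure ⟨2, rfl⟩
  have hword : ∀ (w : List ℕ) {T : ℕ} (hT : GoodTab T),
      (∀ k < 5, wimgF outImg w (bl k) = lineImg T (bl k)) → el hT ∈ S := by
    intro w T hT hw
    have e : (w.map outGen).prod = el hT := RL_ext fun k hk => Fin.ext (by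
      rw [wimgF_smul outImg_smul, el_smul, blL_val hk]
      exact hw k hk)
    rw [← e]
    exact S.list_prod_mem fun y hy => by
      obtain ⟨i, -, rfl⟩ := List.mem_map.1 hy
      exact hgen i
  let φ : fourRu →* RL := toLine.rangeRestrict
  have hφ : ∀ f, φ f = im f := fun f => Subtype.ext rfl
  set M : Subgroup fourRu := S.comap φ with hM
  have hmem : ∀ f, f ∈ M ↔ im f ∈ S := fun f => by rw [hM, Subgroup.mem_comap, hφ]
  have hi : iAut ∈ M := by
    rw [hmem, show im iAut = 1 from Subtype.ext (MonoidHom.mem_ker.1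
      (by rw [ker_toLine]; exact Subgroup.mem_zpowers _))]
    exact S.one_mem
  have habM : ∀ g, (goodAB g).aut ∈ M := by
    intro g
    rw [hmem]
    refine two_cases (fun g => (goodAB g).aut) (fun g => aut_congr _ _ rfl)
      (p := fun x => im x ∈ S) (fun g hg => ?_) g
    obtain rfl | rfl : g = 0 ∨ g = 1 := by omega
    · exact hgen 0
    · exact hword wordB (goodAB 1) fun k hk => (word_checks k hk).1
  have hTM : T1 ≤ M := by
    rw [T1, Subgroup.closure_le]
    rintro _ ⟨g, rfl⟩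
    refine two_cases (fun g => (good_one g).aut) (fun g => aut_congr _ _ (oneT_two g))
      (p := fun x => x ∈ M) (fun g hg => ?_) g
    rw [hmem]
    obtain rfl | rfl : g = 0 ∨ g = 1 := by omega
    · exact hword wordX (good_one 0) fun k hk => (word_checks k hk).2.1
    · exact hword wordY (good_one 1) fun k hk => (word_checks k hk).2.2
  have huM : uAut ∈ M := by
    refine M.mul_mem hi ?_
    have key : ∀ (L : List ℕ) (f : fourRu), f ∈ M →
        L.foldl (fun acc g => (goodAB g).aut⁻¹ * acc) f ∈ M := by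
      intro L
      induction L with
      | nil => exact fun f h => h
      | cons g L ih => exact fun f h => ih _ (M.mul_mem (M.inv_mem (habM g)) h)
    exact key _ _ (habM 0)
  have hidx : (T1.subgroupOf (K 1)).index = 2 := by
    have h := Subgroup.card_mul_index (T1.subgroupOf (K 1))
    rw [Nat.card_congr (Subgroup.subgroupOfEquivOfLe T1_le).toEquiv, card_T1, card_K1] at h
    omega
  have hKM : K 1 ≤ M := by
    intro y hy
    by_contra hyM
    have hy1 : (⟨y, hy⟩ : K 1) ∉ T1.subgroupOf (K 1) := fun h => hyM (hTM h)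
    have hu1 : (⟨uAut, uAut_mem⟩ : K 1)⁻¹ ∉ T1.subgroupOf (K 1) := fun h =>
      uAut_not_mem (by simpa [Subgroup.mem_subgroupOf] using h)
    have hmul := (Subgroup.mul_mem_iff_of_index_two hidx).2
      (iff_of_false hu1 hy1 : ((⟨uAut, uAut_mem⟩ : K 1)⁻¹ ∈ T1.subgroupOf (K 1) ↔
        (⟨y, hy⟩ : K 1) ∈ T1.subgroupOf (K 1)))
    have h2 : uAut⁻¹ * y ∈ M := hTM hmul
    exact hyM (by simpa using M.mul_mem huM h2)
  have hzero : ∀ j : ℕ, j < 16240 → ∃ f ∈ M, (f • refP 0).1 = j := by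
    refine index_induction ⟨1, M.one_mem, by rw [one_smul]; exact refN_base 0 (by norm_num)⟩ ?_ ?_
    · rintro j - ⟨f, hf, e⟩
      refine ⟨iAut * f, M.mul_mem hi hf, ?_⟩
      rw [mul_smul, iAut_smul]
      show rotd (f • refP 0).1 1 = _
      rw [e]
    · rintro g j - ⟨f, hf, e⟩
      refine ⟨(goodAB g).aut * f, M.mul_mem (habM g) hf, ?_⟩
      rw [mul_smul, aut_smul, e]
  refine eq_top_iff.2 fun r _ => ?_
  obtain ⟨f, rfl⟩ := im_surj r
  obtain ⟨g, hg, e⟩ := hzero _ (f • refP 0).2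
  have hk : g⁻¹ * f ∈ K 1 := mem_K.2 fun i hi => by
    obtain rfl : i = 0 := by omega
    rw [mul_smul, inv_smul_eq_iff]
    exact (Fin.ext e).symm
  rw [← hmem]
  simpa using M.mul_mem hg (hKM hk)

/-! ### The reduction -/

theorem conj_pow_A : ∀ (m n : ℕ), eH ^ m * eA ^ n * (eH ^ m)⁻¹ = eA ^ (n * 4 ^ m) := by
  intro m
  induction m with
  | zero => simp
  | succ m ih =>
    intro n
    have e : eH * eA ^ (n * 4 ^ m) = eA ^ (n * 4 ^ m * 4) * eH := by
      have := (SemiconjBy.pow_right (show SemiconjBy eH eA (eA ^ 4) from h_conj) (n * 4 ^ m)).eq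
      rwa [← pow_mul, mul_comm 4] at this
    rw [pow_succ', mul_inv_rev,
      show eH * eH ^ m * eA ^ n * ((eH ^ m)⁻¹ * eH⁻¹) =
        eH * (eH ^ m * eA ^ n * (eH ^ m)⁻¹) * eH⁻¹ by group,
      ih, e, mul_inv_cancel_right, mul_assoc, ← pow_succ]

theorem exists_fix (φ : MulAut RL) :
    ∃ g : RL, ∀ i : Fin 3, g * φ (outGen i.1) * g⁻¹ = outGen i.1 := by
  classical
  have : Fact (Nat.Prime 29) := ⟨by norm_num⟩
  have hfac : (Nat.card RL).factorization 29 = 1 := by
    rw [card_RL, show (145926144000 : ℕ) = 29 * 5031936000 by norm_num,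
      Nat.factorization_mul (by norm_num) (by norm_num), Finsupp.add_apply,
      Nat.Prime.factorization_self (by norm_num),
      Nat.factorization_eq_zero_of_not_dvd (by norm_num)]
  have hsyl : ∀ u : RL, orderOf u = 29 →
      Nat.card (Subgroup.zpowers u) = 29 ^ (Nat.card RL).factorization 29 := by
    intro u hu; rw [Nat.card_zpowers, hu, hfac, pow_one]
  let P1 : Sylow 29 RL := Sylow.ofCard _ (hsyl (φ eA) (by rw [MulEquiv.orderOf_eq, orderOf_eA]))
  let P2 : Sylow 29 RL := Sylow.ofCard _ (hsyl eA orderOf_eA)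
  obtain ⟨g1, hg1⟩ := MulAction.exists_smul_eq RL P1 P2
  have hmem : g1 * φ eA * g1⁻¹ ∈ Subgroup.zpowers eA := by
    have h2 : g1 * φ eA * g1⁻¹ ∈ (↑(g1 • P1) : Subgroup RL) := by
      rw [Sylow.coe_subgroup_smul]
      exact Subgroup.smul_mem_pointwise_smul (φ eA) (MulAut.conj g1) _ (Subgroup.mem_zpowers _)
    rw [hg1] at h2
    exact h2
  obtain ⟨k, hk, hka⟩ : ∃ k < 29, eA ^ k = g1 * φ eA * g1⁻¹ := by
    obtain ⟨k, hk, he⟩ := Finset.mem_image.1 (mem_zpowers_iff_mem_range_orderOf.1 hmem)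
    exact ⟨k, by simpa [orderOf_eA] using hk, he⟩
  have hk0 : k ≠ 0 := by
    rintro rfl
    rw [pow_zero] at hka
    have : φ eA = 1 := by
      rw [eq_comm, mul_inv_eq_one] at hka
      exact mul_left_cancel (hka.trans (mul_one g1).symm)
    exact a_ne_one (φ.injective (this.trans (map_one φ).symm))
  obtain ⟨m, -, hmk⟩ : ∃ m < 14, k * 4 ^ m % 29 = 1 ∨ k * 4 ^ m % 29 = 2 :=
    (by decide +kernel : ∀ k < 29, k ≠ 0 → ∃ m < 14, k * 4 ^ m % 29 = 1 ∨ k * 4 ^ m % 29 = 2)
      k hk hk0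
  set k1 := k * 4 ^ m % 29 with hk1
  let ψ : MulAut RL := MulAut.conj (eH ^ m * g1) * φ
  have hψa : ψ eA = eA ^ k1 := by
    change eH ^ m * g1 * φ eA * (eH ^ m * g1)⁻¹ = _
    rw [mul_inv_rev, show eH ^ m * g1 * φ eA * (g1⁻¹ * (eH ^ m)⁻¹) =
      eH ^ m * (g1 * φ eA * g1⁻¹) * (eH ^ m)⁻¹ by group, ← hka, conj_pow_A,
      pow_eq_pow_mod (k * 4 ^ m) a_pow29]
  have hcomm : Commute (eH⁻¹ * ψ eH) eA := by
    have h := congrArg ψ h_conj
    rw [map_mul, map_mul, map_pow, hψa, ← pow_mul] at h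
    have hH : eH * eA ^ k1 = eA ^ (k1 * 4) * eH := by
      have := (SemiconjBy.pow_right (show SemiconjBy eH eA (eA ^ 4) from h_conj) k1).eq
      rwa [← pow_mul, mul_comm 4] at this
    have hc : Commute (eH⁻¹ * ψ eH) (eA ^ k1) := by
      show eH⁻¹ * ψ eH * eA ^ k1 = eA ^ k1 * (eH⁻¹ * ψ eH)
      have e : eH⁻¹ * eA ^ (k1 * 4) = eA ^ k1 * eH⁻¹ := by
        rw [eq_mul_inv_iff_mul_eq, mul_assoc, ← hH, inv_mul_cancel_left]
      rw [mul_assoc, h, ← mul_assoc, e, mul_assoc]
    obtain ⟨t, ht⟩ : ∃ t, (eA ^ k1) ^ t = eA := by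
      rcases hmk with e | e
      · exact ⟨1, by rw [e, pow_one, pow_one]⟩
      · exact ⟨15, by rw [e, ← pow_mul, pow_eq_pow_mod (2 * 15) a_pow29]; exact pow_one eA⟩
    rw [← ht]
    exact hc.pow_right t
  obtain ⟨i, hi⟩ := centralA hcomm
  let χ : MulAut RL := MulAut.conj (eA ^ (11 * i)) * ψ
  have hχa : χ eA = eA ^ k1 := by
    show eA ^ (11 * i) * ψ eA * (eA ^ (11 * i))⁻¹ = _
    rw [hψa, ← pow_add, Nat.add_comm, pow_add, mul_inv_cancel_right]
  have hχh : χ eH = eH := by
    show eA ^ (11 * i) * ψ eH * (eA ^ (11 * i))⁻¹ = eH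
    have hpb : ψ eH = eH * eA ^ i := by rw [← hi, mul_inv_cancel_left]
    have h22 : SemiconjBy eH (eA ^ 22) eA := by
      show eH * eA ^ 22 = eA * eH
      have := (SemiconjBy.pow_right (show SemiconjBy eH eA (eA ^ 4) from h_conj) 22).eq
      rw [this, ← pow_mul, pow_eq_pow_mod (4 * 22) a_pow29]
      exact congrArg (· * eH) (pow_one eA)
    have hj : eA ^ (11 * i) * eH = eH * eA ^ (22 * (11 * i)) := by
      have := (h22.pow_right (11 * i)).eq
      rw [← pow_mul] at this
      exact this.symm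
    have hinv : (eA ^ (11 * i))⁻¹ = eA ^ (308 * i) := by
      refine inv_eq_of_mul_eq_one_right ?_
      rw [← pow_add, show 11 * i + 308 * i = 29 * (11 * i) by ring, pow_mul, a_pow29, _root_.one_pow]
    rw [hpb, ← mul_assoc, hj, mul_assoc eH, ← pow_add, hinv, mul_assoc, ← pow_add,
      show 22 * (11 * i) + i + 308 * i = 29 * (19 * i) by ring, pow_mul, a_pow29, _root_.one_pow, mul_one]
  have hcommC : Commute (eC⁻¹ * χ eC) (eH ^ 2) := by
    have h := congrArg χ c_conj
    simp only [map_mul, map_pow, hχh] at h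
    show eC⁻¹ * χ eC * eH ^ 2 = eH ^ 2 * (eC⁻¹ * χ eC)
    have e : eC⁻¹ * (eH ^ 2) ^ 6 = eH ^ 2 * eC⁻¹ := by
      rw [eq_mul_inv_iff_mul_eq, mul_assoc, ← c_conj, inv_mul_cancel_left]
    rw [mul_assoc, h, ← mul_assoc, e, mul_assoc]
  obtain ⟨n, hn, hcn⟩ := centralD hcommC
  have hn' : centEl n = centEl (n % 28) := by
    by_cases h28 : n < 28
    · rw [Nat.mod_eq_of_lt h28]
    · rw [centEl, centEl, show n % 28 = n - 28 by omega, show n / 2 = 14 + (n - 28) / 2 by omega,
        pow_add, h_pow14, one_mul, show n % 2 = (n - 28) % 2 by omega]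
  have hall : ∀ i, χ (outGen i) = newGen k1 (n % 28) i := by
    intro i
    match i with
    | 0 => exact hχa
    | 1 => exact hχh
    | _ + 2 =>
      show χ eC = eC * centEl (n % 28)
      rw [← hn', ← hcn, mul_inv_cancel_left]
  obtain ⟨e1, e2⟩ := image_eq χ (k := k1) (m := n % 28) hmk (Nat.mod_lt _ (by norm_num)) hall
  refine ⟨eA ^ (11 * i) * (eH ^ m * g1), fun x => ?_⟩
  have hx : χ (outGen x.1) = outGen x.1 := by
    rw [hall, e1, e2]
    have hz : centEl 0 = 1 := by rw [centEl]; simp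
    match x.1 with
    | 0 => exact pow_one eA
    | 1 => rfl
    | _ + 2 => show eC * centEl 0 = eC; rw [hz, mul_one]
  rw [show eA ^ (11 * i) * (eH ^ m * g1) * φ (outGen x.1) *
      (eA ^ (11 * i) * (eH ^ m * g1))⁻¹ =
    eA ^ (11 * i) * (eH ^ m * g1 * φ (outGen x.1) * (eH ^ m * g1)⁻¹) * (eA ^ (11 * i))⁻¹ by group]
  exact hx

/-- `Ru` has no outer automorphisms. -/
theorem card_out_Ru : Nat.card (Cfsg.Out Ru) = 1 := by
  refine CfsgLib.SporadicOut.card_out_eq_one (fun i : Fin 3 => ruEquiv.symm (outGen i.1)) ?_ ?_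
  · rw [show Set.range (fun i : Fin 3 => ruEquiv.symm (outGen i.1)) =
        ruEquiv.symm.toMonoidHom '' Set.range (fun i : Fin 3 => outGen i.1) from
      Set.range_comp ruEquiv.symm.toMonoidHom _, ← MonoidHom.map_closure, closure_outGen,
      ← MonoidHom.range_eq_map, MonoidHom.range_eq_top.2 ruEquiv.symm.surjective]
  · intro φ
    obtain ⟨g, hg⟩ := exists_fix ((MulEquiv.trans (MulEquiv.trans ruEquiv.symm φ) ruEquiv))
    refine ⟨ruEquiv.symm g, fun i => ?_⟩
    have h := congrArg ruEquiv.symm (hg i)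
    rw [map_mul, map_mul, map_inv] at h
    simpa using h

end CfsgLib.Ru
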