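import Cfsg.Agent.Ru.Simple

/-!
An invariant of pairs of lines, and the computation of images of lines under words.
-/

set_option autoImplicit false
set_option Elab.async false

namespace CfsgLib.Ru

open Cfsg.Spor

/-- A signed slot of the vector `k` against the unit vector `d`, shifted by `4`. -/
noncomputable def sv (k d : ℕ) : ℕ :=
  bif Nat.blt (Nat.mod d 4) 2 then dig (Ej k) (fslot d) else Nat.sub 8 (dig (Ej k) (fslot d))

/-- The inner product of the `u`-th vector of the line `l` with the first of `m`, shifted by `64`. -/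
noncomputable def dotL (l u m : ℕ) : ℕ := sum16 (sv (Nat.mul 4 m)) (DL l) u

/-- The squared absolute value of the Hermitian product of two lines. -/
noncomputable def relN (l m : ℕ) : ℕ :=
  Nat.sub (Nat.add (Nat.add (Nat.mul (dotL l 0 m) (dotL l 0 m))
    (Nat.mul (dotL l 1 m) (dotL l 1 m))) 8192) (Nat.mul 128 (Nat.add (dotL l 0 m) (dotL l 1 m)))

theorem slot_vec_le {j : ℕ} (hj : j < 16240) {s : ℕ} (hs : s < 56) : slot (vec j) s ≤ 4 := by
  have h : slot (vec j) s * slot (vec j) s ≤ rdot (vec j) (vec j) :=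
    Finset.single_le_sum (f := fun t => slot (vec j) t * slot (vec j) t)
      (fun t _ => mul_self_nonneg _) (Finset.mem_range.2 hs)
  rw [rdot_vec_self j hj] at h
  nlinarith

theorem dotL_eq {l u m : ℕ} (hl : l < 4060) (hu : u < 4) (hm : m < 4060) :
    (dotL l u m : ℤ) = rdot (vec (4 * l + u)) (vec (4 * m)) + 64 := by
  have hok := (okVec_spec (show 4 * l + u < 16240 by omega)).1
  rw [show (4 * l + u) / 4 = l by omega] at hok
  have e : dotL l u m = ∑ i : Fin 16, sv (4 * m) (rotd (dget (DL l) i) u) :=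
    sum16_eq (sv (Nat.mul 4 m)) (DL l) u
  have h4 : (4 : ℤ) * ((∑ i : Fin 16, sv (4 * m) (rotd (dget (DL l) i) u) : ℕ) : ℤ)
      = 4 * rdot (vec (4 * l + u)) (vec (4 * m)) + 256 := by
    rw [← rdot_zsmul_left, four_vec (show 4 * l + u < 16240 by omega),
      show (4 * l + u) / 4 = l by omega, show (4 * l + u) % 4 = u by omega, sumF, rdot_sum_left,
      Nat.cast_sum, Finset.mul_sum, show (256 : ℤ) = ∑ _i : Fin 16, 16 by simp,
      ← Finset.sum_add_distrib]
    refine Finset.sum_congr rfl fun i _ => ?_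
    have hd := rotd_lt (okD_spec hok i) u
    rw [rdot_F hd]
    have hs := slot_dec (Ej (4 * m)) _ (fslot_lt _ hd)
    have hle := slot_vec_le (show 4 * m < 16240 by omega) (fslot_lt _ hd)
    rw [vec, hs] at hle ⊢
    by_cases h2 : rotd (dget (DL l) i) u % 4 < 2
    · rw [sv, show Nat.blt (Nat.mod (rotd (dget (DL l) i) u) 4) 2 = true from
        Nat.ble_eq_true_of_le h2, cond_true, if_pos h2]
      ring
    · rw [sv, show Nat.blt (Nat.mod (rotd (dget (DL l) i) u) 4) 2 = false from
        blt_false (not_lt.1 h2), cond_false, if_neg h2]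
      generalize dig (Ej (4 * m)) _ = e at hle ⊢
      rw [show ((Nat.sub 8 e : ℕ) : ℤ) = 8 - e from Nat.cast_sub (by omega)]
      ring
  rw [e]
  omega

/-- The invariant on vectors. -/
noncomputable def relP (a b : Pt) : ℤ :=
  rdot (vec a.1) (vec b.1) ^ 2 + rdot (vec (rotP a 1).1) (vec b.1) ^ 2

theorem relP_smul (f : fourRu) (a b : Pt) : relP (f • a) (f • b) = relP a b := by
  rw [relP, relP, ← smul_rotP, smul_rdot, smul_rdot]

theorem relP_rot (a b : Pt) : relP (rotP a 1) b = relP a b ∧ relP a (rotP b 1) = relP a b := by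
  have g1 : ∀ c : Pt, vec (rotP c 1).1 = gI • vec c.1 := fun c => vec_rot c.2
  have g2 : gI • gI • vec a.1 = -vec a.1 := by
    rw [smul_smul, show gI * gI = (-1 : GaussianInt) by decide, neg_one_smul]
  have h : rdot (vec a.1) (gI • vec b.1) = -rdot (gI • vec a.1) (vec b.1) := by
    rw [← rdot_gI, smul_smul gI gI, show gI * gI = (-1 : GaussianInt) by decide, neg_one_smul,
      rdot_neg_right]
  constructor
  · simp only [relP, g1, g2, rdot_neg_left]
    ring
  · simp only [relP, g1, h, rdot_gI]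
    ring

theorem relP_rotP (a b : Pt) : ∀ u t, relP (rotP a u) (rotP b t) = relP a b
  | 0, 0 => by rw [rotP_zero, rotP_zero]
  | u + 1, 0 => by
    rw [← rotP_rotP a u 1, (relP_rot _ _).1]
    exact relP_rotP a b u 0
  | u, t + 1 => by
    rw [← rotP_rotP b t 1, (relP_rot _ _).2]
    exact relP_rotP a b u t

theorem relN_eq (l m : Ln) : (relN l.1 m.1 : ℤ) = relP (lineRep l) (lineRep m) := by
  have h0 := dotL_eq (u := 0) l.2 (by norm_num) m.2
  have h1 := dotL_eq (u := 1) l.2 (by norm_num) m.2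
  have e1 : (rotP (lineRep l) 1).1 = 4 * l.1 + 1 := by
    show rotd (4 * l.1) 1 = _
    rw [rotd_eq]; omega
  rw [relP, e1, show (lineRep l).1 = 4 * l.1 + 0 from rfl, show (lineRep m).1 = 4 * m.1 from rfl]
  generalize rdot (vec (4 * l.1 + 0)) (vec (4 * m.1)) = x at h0
  generalize rdot (vec (4 * l.1 + 1)) (vec (4 * m.1)) = y at h1
  show ((dotL l.1 0 m.1 * dotL l.1 0 m.1 + dotL l.1 1 m.1 * dotL l.1 1 m.1 + 8192 -
    128 * (dotL l.1 0 m.1 + dotL l.1 1 m.1) : ℕ) : ℤ) = _
  generalize dotL l.1 0 m.1 = p at h0 ⊢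
  generalize dotL l.1 1 m.1 = q at h1 ⊢
  have hle : 128 * (p + q) ≤ p * p + q * q + 8192 := by
    zify
    nlinarith [sq_nonneg ((p : ℤ) - 64), sq_nonneg ((q : ℤ) - 64)]
  rw [Nat.cast_sub hle]
  push_cast
  rw [h0, h1]
  ring

theorem relN_smul (r : RL) (l m : Ln) : relN (r • l).1 (r • m).1 = relN l.1 m.1 := by
  obtain ⟨f, rfl⟩ := im_surj r
  have key : ∀ x : Ln, ∃ u, f • lineRep x = rotP (lineRep (im f • x)) u := fun x =>
    ⟨_, eq_rotP_lineRep _⟩
  obtain ⟨u, hu⟩ := key l
  obtain ⟨t, ht⟩ := key m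
  have h := relP_smul f (lineRep l) (lineRep m)
  rw [hu, ht, relP_rotP, ← relN_eq, ← relN_eq] at h
  exact_mod_cast h

/-! ### Images of lines -/

/-- The image of a line under a table. -/
noncomputable def lineImg (T l : ℕ) : ℕ := Nat.div (img T (Nat.mul 4 l)) 4

/-- The image of a line under a power. -/
noncomputable def lineIt (T i l : ℕ) : ℕ := Nat.rec l (fun _ ih => lineImg T ih) i

/-- The image of a line under a word. -/
noncomputable def wimg (T : ℕ → ℕ) (w : List ℕ) (l : ℕ) : ℕ :=
  List.rec l (fun i _ ih => lineImg (T i) ih) w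

/-- The image in the permutations of the lines of a table. -/
noncomputable def el {T : ℕ} (hT : GoodTab T) : RL := im hT.aut

theorem el_smul {T : ℕ} (hT : GoodTab T) (l : Ln) : (el hT • l).1 = lineImg T l.1 := by
  show (hT.aut • lineRep l).1 / 4 = img T (4 * l.1) / 4
  rw [aut_smul]
  rfl

theorem el_pow_smul {T : ℕ} (hT : GoodTab T) : ∀ (i : ℕ) (l : Ln),
    (el hT ^ i • l).1 = lineIt T i l.1
  | 0, l => by rw [pow_zero, one_smul]; rfl
  | i + 1, l => by
    rw [pow_succ', mul_smul, el_smul, el_pow_smul hT i l]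
    rfl

theorem word_smul {T : ℕ → ℕ} (hT : ∀ g, GoodTab (T g)) : ∀ (w : List ℕ) (l : Ln),
    ((w.map fun i => el (hT i)).prod • l).1 = wimg T w l.1
  | [], l => by rw [List.map_nil, List.prod_nil, one_smul]; rfl
  | i :: w, l => by
    rw [List.map_cons, List.prod_cons, mul_smul, el_smul, word_smul hT w l]
    rfl

/-! ### Five lines determine an element -/

/-- The lines of the base vectors. -/
noncomputable def bl (k : ℕ) : ℕ := Nat.div (baseN k) 4

/-- The lines of the base vectors, as lines. -/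
noncomputable def blL (k : ℕ) : Ln := mkLn (bl k)

theorem blL_eq : ∀ k < 5, blL k = lineOf (refP k) := by
  intro k hk
  refine Fin.ext ?_
  show (mkLn (baseN k / 4)).1 = (refP k).1 / 4
  rw [show (refP k).1 = baseN k from refN_base k hk,
    mkLn_val (by have := refN_lt k; rw [refN_base k hk] at this; omega)]

theorem base_adj : adj (refN 0) (refN 1) ∧ adj (refN 1) (refN 2) ∧ adj (refN 0) (refN 3) ∧
    adj (refN 0) (refN 4) := by
  unfold adj
  decide +kernel

theorem eq_one_of_blL {r : RL} (h : ∀ k < 5, r • blL k = blL k) : r = 1 := by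
  obtain ⟨f, rfl⟩ := im_surj r
  have hb : ∀ k < 5, f • lineOf (refP k) = lineOf (refP k) := fun k hk => by
    rw [← blL_eq k hk]; exact h k hk
  obtain ⟨u, -, hu⟩ := line_fix_zero (hb 0 (by norm_num))
  set f' := (iAut ^ u)⁻¹ * f with hf'
  have hb' : ∀ k < 5, f' • lineOf (refP k) = lineOf (refP k) := fun k hk => by
    rw [hf', mul_smul, hb k hk, inv_smul_eq_iff, iAut_pow_line]
  have h0 : f' • refP 0 = refP 0 := mem_K.1 hu 0 (by norm_num)
  have h1 : f' • refP 1 = refP 1 := phase_eq h0 (hb' 1 (by norm_num)) base_adj.1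
  have h1' : f' = 1 := by
    refine eq_one_of_base fun k hk => ?_
    obtain rfl | rfl | rfl | rfl | rfl : k = 0 ∨ k = 1 ∨ k = 2 ∨ k = 3 ∨ k = 4 := by omega
    · exact h0
    · exact h1
    · exact phase_eq h1 (hb' 2 (by norm_num)) base_adj.2.1
    · exact phase_eq h0 (hb' 3 (by norm_num)) base_adj.2.2.1
    · exact phase_eq h0 (hb' 4 (by norm_num)) base_adj.2.2.2
  rw [hf', inv_mul_eq_one] at h1'
  refine Subtype.ext (MonoidHom.mem_ker.1 ?_)
  rw [ker_toLine, ← h1']
  exact Subgroup.pow_mem _ (Subgroup.mem_zpowers _) u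

theorem RL_ext {r s : RL} (h : ∀ k < 5, r • blL k = s • blL k) : r = s := by
  refine (inv_mul_eq_one.1 (eq_one_of_blL fun k hk => ?_)).symm
  rw [mul_smul, h k hk, inv_smul_smul]

/-! ### Loops -/

/-- All numbers below `n`. -/
noncomputable def allN (n : ℕ) (f : ℕ → Bool) : Bool := Nat.rec true (fun i ih => f i && ih) n

theorem allN_iff : ∀ {n : ℕ} {f : ℕ → Bool}, allN n f = true ↔ ∀ i < n, f i = true
  | 0, f => iff_of_true rfl (fun i hi => absurd hi (Nat.not_lt_zero i))
  | n + 1, f => by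
    show (f n && allN n f) = true ↔ _
    rw [Bool.and_eq_true, allN_iff]
    constructor
    · rintro ⟨h1, h2⟩ i hi
      rcases Nat.lt_succ_iff_lt_or_eq.1 hi with h | rfl
      · exact h2 i h
      · exact h1
    · exact fun h => ⟨h n (Nat.lt_succ_self n), fun i hi => h i (Nat.lt_succ_of_lt hi)⟩

/-- Lines that agree with a base line in all relations to the listed points are that line. -/
noncomputable def okUniq (n : ℕ) (P : ℕ → ℕ) (l : ℕ) : Bool :=
  allN 5 fun k => bif allN n (fun i => Nat.beq (relN l (P i)) (relN (bl k) (P i))) then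
    Nat.beq l (bl k) else true

theorem eq_one_of_fix {n : ℕ} {P : ℕ → ℕ} (hP : ∀ i < n, P i < 4060)
    (h : allR 4060 (okUniq n P) 12 0 = true) {r : RL}
    (hr : ∀ i < n, r • mkLn (P i) = mkLn (P i)) : r = 1 := by
  refine eq_one_of_blL fun k hk => ?_
  have hc := allN_iff.1 (allR_zero h (by norm_num) _ (r • blL k).2) k hk
  have hb : (blL k).1 = bl k := mkLn_val (by
    show baseN k / 4 < 4060
    have := refN_lt k
    rw [refN_base k hk] at this
    omega)
  rw [show allN n (fun i => Nat.beq (relN (r • blL k).1 (P i)) (relN (bl k) (P i))) = true from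
    allN_iff.2 fun i hi => by
      have e := relN_smul r (blL k) (mkLn (P i))
      rw [hr i hi, mkLn_val (hP i hi), hb] at e
      rw [e]
      exact Nat.beq_refl _, cond_true] at hc
  exact Fin.ext ((Nat.eq_of_beq_eq_true hc).trans hb.symm)

end CfsgLib.Ru
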